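import Mathlib
import Cfsg.Prelude.Def_Involutions
import Cfsg.Prelude.Def_LieExceptional
import Cfsg.Agent.Lib.SECount.Basic
import Cfsg.Agent.Lib.CIT.StrongEmb
import Cfsg.Agent.Lib.CNSolvable.MaxNilpotent
import Cfsg.Agent.Lib.TIHall.Complement
import Cfsg.Agent.Lib.Zassenhaus.Feit
import Cfsg.Agent.S0738

/-!
A simple CN-group is a CIT-group (Suzuki).  A maximal nilpotent subgroup `H` containing the
centraliser of an involution, whose order is not a prime power, has a strongly embedded normaliser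
`M`; counting involutions shows that the group is a Zassenhaus group on the cosets of `M` with
kernel `H`, and Feit's theorem says that `H` is a 2-group.
-/

set_option autoImplicit false
set_option linter.style.haveILetI false

namespace Cfsg.Agent.Lib.CNCIT

open Cfsg.Agent.Lib.SECount
open Cfsg.Agent.Lib.CIT (twoPt mem_twoPt smul_mk_eq_iff smul_one_eq_iff)

universe u

variable {G : Type u} [Group G]

/-- A trivially intersecting Hall subgroup of even order containing the centralisers of its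
nontrivial elements. -/
structure Ctx (H M : Subgroup G) : Prop where
  norm : Subgroup.normalizer (H : Set G) = M
  ti : ∀ g, g ∉ M → ∀ x ∈ H, g⁻¹ * x * g ∈ H → x = 1
  cent : ∀ x ∈ H, x ≠ 1 → Subgroup.centralizer ({x} : Set G) ≤ H
  cop : (Nat.card H).Coprime H.index
  ne_top : M ≠ ⊤
  even : 2 ∣ Nat.card H

variable {H M : Subgroup G}

theorem Ctx.le (c : Ctx H M) : H ≤ M := c.norm ▸ Subgroup.le_normalizer

theorem Ctx.conj_mem (c : Ctx H M) {m x : G} (hm : m ∈ M) (hx : x ∈ H) : m * x * m⁻¹ ∈ H :=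
  (Subgroup.mem_normalizer_iff.1 (c.norm.ge hm) x).1 hx

variable [Finite G]

theorem Ctx.mem_of_order (c : Ctx H M) {x : G} (hx : x ∈ M) (h : orderOf x ∣ Nat.card H) :
    x ∈ H := by
  refine TIHall.mem_of_pow_eq_one ?_ (c.norm.ge hx) h
  exact c.cop.coprime_dvd_right (Subgroup.relIndex_dvd_index_of_le Subgroup.le_normalizer)

theorem Ctx.invo_mem (c : Ctx H M) {t : G} (ht : orderOf t = 2) (htM : t ∈ M) : t ∈ H :=
  c.mem_of_order htM (ht.symm ▸ c.even)

theorem Ctx.exists_invo (c : Ctx H M) : ∃ t : G, orderOf t = 2 ∧ t ∈ H := by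
  haveI := Fact.mk Nat.prime_two
  obtain ⟨t, ht⟩ := exists_prime_orderOf_dvd_card' (G := H) 2 c.even
  exact ⟨t, (Subgroup.orderOf_coe t).trans ht, t.2⟩

theorem Ctx.stronglyEmbedded (c : Ctx H M) : Cfsg.IsStronglyEmbedded M := by
  refine ⟨c.ne_top, even_iff_two_dvd.2 (c.even.trans (Subgroup.card_dvd_of_le c.le)), fun g hg => ?_⟩
  rw [Nat.odd_iff, ← Nat.two_dvd_ne_zero]
  intro h2
  haveI := Fact.mk Nat.prime_two
  obtain ⟨⟨x, hx12⟩, hx⟩ :=
    exists_prime_orderOf_dvd_card' (G := ↥(M ⊓ M.map (MulAut.conj g).toMonoidHom)) 2 h2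
  rw [Subgroup.orderOf_mk] at hx
  obtain ⟨hx1, hx2⟩ := Subgroup.mem_inf.1 hx12
  have h3 : g⁻¹ * x * g ∈ M := mem_map_conj.1 hx2
  have ho : orderOf (g⁻¹ * x * g) = 2 := by
    have := (orderOf_conj_eq g⁻¹ x).trans hx
    rwa [inv_inv] at this
  exact invo_ne_one hx (c.ti g hg x (c.invo_mem hx hx1) (c.invo_mem ho h3))

theorem Ctx.inf_twoPt (c : Ctx H M) {u x : G} (hu : u ∉ M) (hx : x ∈ twoPt M u) (hxH : x ∈ H) :
    x = 1 := by
  refine c.ti u hu x hxH (c.mem_of_order (mem_twoPt.1 hx).2 ?_)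
  have := orderOf_conj_eq u⁻¹ x
  rw [inv_inv] at this
  exact this ▸ Subgroup.orderOf_dvd_natCard H hxH

/-- All the counting inequalities are equalities. -/
theorem Ctx.counting (c : Ctx H M) {u : G} (hu : orderOf u = 2) (huM : u ∉ M) :
    Nat.card (twoPt M u) = Nat.card {t : G // orderOf t = 2 ∧ t ∈ M} ∧
    (∀ x ∈ twoPt M u, u * x * u⁻¹ = x⁻¹) ∧
    (∀ m ∈ M, ∃ a ∈ H, ∃ d ∈ twoPt M u, m = a * d) ∧
    (∀ t, orderOf t = 2 → t ∈ H → ∀ a ∈ H, a * t = t * a) := by
  classical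
  set I := {t : G // orderOf t = 2 ∧ t ∈ M} with hI
  set D := twoPt M u with hD
  have hse := c.stronglyEmbedded
  have hHpos : 0 < Nat.card H := Nat.card_pos
  -- `D × H → M`
  let e₁ : D × H → M := fun p => ⟨(p.2 : G) * p.1, M.mul_mem (c.le p.2.2) p.1.2.1⟩
  have he₁ : Function.Injective e₁ := by
    rintro ⟨d, a⟩ ⟨d', a'⟩ e
    have e' : (a : G) * d = a' * d' := congrArg Subtype.val e
    have h1 : (a' : G)⁻¹ * a = d' * (d : G)⁻¹ := by
      rw [inv_mul_eq_iff_eq_mul, ← mul_assoc, ← e', mul_inv_cancel_right]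
    have h2 : (d' : G) * (d : G)⁻¹ = 1 :=
      c.inf_twoPt huM (D.mul_mem d'.2 (D.inv_mem d.2)) (h1 ▸ H.mul_mem (H.inv_mem a'.2) a.2)
    exact Prod.ext (Subtype.ext (mul_inv_eq_one.1 h2).symm)
      (Subtype.ext (inv_mul_eq_one.1 (h1.trans h2)).symm)
  -- involutions of the coset `uM` into `D`
  let J := {j : G // orderOf j = 2 ∧ u⁻¹ * j ∈ M}
  have hinvJ : ∀ j : J, u * (u⁻¹ * j.1) * u⁻¹ = (u⁻¹ * j.1)⁻¹ := by
    rintro ⟨j, hj, -⟩
    show u * (u⁻¹ * j) * u⁻¹ = (u⁻¹ * j)⁻¹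
    rw [mul_inv_rev, inv_inv, invo_inv hj, invo_inv hu, ← mul_assoc u, invo_sq hu, one_mul]
  let e₂ : J → D := fun j => ⟨u⁻¹ * j.1, mem_twoPt.2 ⟨j.2.2, by
    have h1 := M.inv_mem j.2.2
    rw [← hinvJ j] at h1
    have e : ∀ z : G, u * z * u⁻¹ = u⁻¹ * z * u := fun z => by rw [invo_inv hu]
    rwa [e] at h1⟩⟩
  have he₂ : Function.Injective e₂ := fun j j' e =>
    Subtype.ext (mul_left_cancel (congrArg Subtype.val e : u⁻¹ * j.1 = u⁻¹ * j'.1))
  have hJI : Nat.card J = Nat.card I := card_coset_invo hse huM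
  -- `M → I × H`, for each involution `t` of `H`
  have key : ∀ t : G, orderOf t = 2 → t ∈ H → ∃ e₃ : M → I × H, Function.Injective e₃ ∧
      ∀ m : M, ((e₃ m).1 : G) = t →
        (e₃ m).2.1 * t = t * (e₃ m).2.1 := by
    intro t ht htH
    let f : M → I := fun m => ⟨(m : G) * t * (m : G)⁻¹, (orderOf_conj_eq _ _).trans ht,
      M.mul_mem (M.mul_mem m.2 (c.le htH)) (M.inv_mem m.2)⟩
    have hrep : ∀ m : M, f (Function.invFun f (f m)) = f m := fun m => Function.invFun_eq ⟨m, rfl⟩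
    have hc : ∀ m : M, ((Function.invFun f (f m) : M) : G)⁻¹ * m * t =
        t * (((Function.invFun f (f m) : M) : G)⁻¹ * m) := by
      intro m
      set r : G := ((Function.invFun f (f m) : M) : G)
      have h1 : r * t * r⁻¹ = (m : G) * t * (m : G)⁻¹ := congrArg Subtype.val (hrep m)
      calc r⁻¹ * (m : G) * t = r⁻¹ * ((m : G) * t * (m : G)⁻¹) * m := by group
        _ = t * (r⁻¹ * m) := by rw [← h1]; group
    refine ⟨fun m => (f m, ⟨((Function.invFun f (f m) : M) : G)⁻¹ * m,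
      c.cent t htH (invo_ne_one ht) (Subgroup.mem_centralizer_singleton_iff.2 (hc m))⟩), ?_, ?_⟩
    · intro m m' e
      obtain ⟨e1, e2⟩ := Prod.mk.inj e
      have e2' : ((Function.invFun f (f m) : M) : G)⁻¹ * m =
          ((Function.invFun f (f m') : M) : G)⁻¹ * m' := congrArg Subtype.val e2
      rw [e1] at e2'
      exact Subtype.ext (mul_left_cancel e2')
    · exact fun m _ => hc m
  obtain ⟨t₀, ht₀, ht₀H⟩ := c.exists_invo
  obtain ⟨e₃, he₃, -⟩ := key t₀ ht₀ ht₀H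
  have h1 : Nat.card D * Nat.card H ≤ Nat.card M := by
    rw [← Nat.card_prod]; exact Nat.card_le_card_of_injective e₁ he₁
  have h2 : Nat.card I ≤ Nat.card D := hJI ▸ Nat.card_le_card_of_injective e₂ he₂
  have h3 : Nat.card M ≤ Nat.card I * Nat.card H := by
    rw [← Nat.card_prod]; exact Nat.card_le_card_of_injective e₃ he₃
  have hDI : Nat.card D = Nat.card I :=
    le_antisymm (Nat.le_of_mul_le_mul_right (h1.trans h3) hHpos) h2
  have hM' : Nat.card M = Nat.card I * Nat.card H := le_antisymm h3 (hDI ▸ h1)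
  refine ⟨hDI, fun x hx => ?_, fun m hm => ?_, fun t ht htH a ha => ?_⟩
  · obtain ⟨j, hj⟩ := (Function.Injective.bijective_of_nat_card_le he₂ (by omega)).2 ⟨x, hx⟩
    rw [show x = u⁻¹ * j.1 from (congrArg Subtype.val hj).symm]
    exact hinvJ j
  · obtain ⟨⟨d, a⟩, hp⟩ := (Function.Injective.bijective_of_nat_card_le he₁
      (by rw [Nat.card_prod, hM', hDI])).2 ⟨m, hm⟩
    exact ⟨a, a.2, d, d.2, (congrArg Subtype.val hp).symm⟩
  · obtain ⟨e, he, hec⟩ := key t ht htH
    obtain ⟨m, hm⟩ := (Function.Injective.bijective_of_nat_card_le he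
      (by rw [Nat.card_prod, hM'])).2 (⟨t, ht, c.le htH⟩, ⟨a, ha⟩)
    have := hec m (by rw [hm])
    rwa [hm] at this

theorem Ctx.comm (c : Ctx H M) {u x y : G} (hu : orderOf u = 2) (huM : u ∉ M)
    (hx : x ∈ twoPt M u) (hy : y ∈ twoPt M u) : x * y = y * x := by
  have h := (c.counting hu huM).2.1
  have hxy : u * (x * y) * u⁻¹ = (u * x * u⁻¹) * (u * y * u⁻¹) := by group
  rw [h _ (mul_mem hx hy), h _ hx, h _ hy] at hxy
  simpa using congrArg (·⁻¹) hxy

theorem Ctx.inverts_of_smul (c : Ctx H M) {w x : G} (hw : orderOf w = 2) {a : G ⧸ M}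
    (hwa : w • a ≠ a) (hxa : x • a = a) (hxw : x • (w • a) = w • a) : w * x * w⁻¹ = x⁻¹ := by
  obtain ⟨g, rfl⟩ := QuotientGroup.mk_surjective a
  have hw0 : orderOf (g⁻¹ * w * g) = 2 := by
    have := (orderOf_conj_eq g⁻¹ w).trans hw
    rwa [inv_inv] at this
  have hw0M : g⁻¹ * w * g ∉ M := fun e => hwa (smul_mk_eq_iff.2 e)
  have hmem : g⁻¹ * x * g ∈ twoPt M (g⁻¹ * w * g) := by
    refine mem_twoPt.2 ⟨smul_mk_eq_iff.1 hxa, ?_⟩
    have h1 : w • (QuotientGroup.mk g : G ⧸ M) = QuotientGroup.mk (w * g) := by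
      rw [MulAction.Quotient.smul_mk, smul_eq_mul]
    have := smul_mk_eq_iff.1 (h1 ▸ hxw)
    rwa [show (g⁻¹ * w * g)⁻¹ * (g⁻¹ * x * g) * (g⁻¹ * w * g) = (w * g)⁻¹ * x * (w * g) by group]
  have := (c.counting hw0 hw0M).2.1 _ hmem
  calc w * x * w⁻¹ = g * ((g⁻¹ * w * g) * (g⁻¹ * x * g) * (g⁻¹ * w * g)⁻¹) * g⁻¹ := by group
    _ = x⁻¹ := by rw [this]; group

theorem Ctx.not_inverted (c : Ctx H M) {u x m : G} (hu : orderOf u = 2) (huM : u ∉ M)
    (hx : x ∈ twoPt M u) (hm : m ∈ M) (hinv : m * x * m⁻¹ = x⁻¹) : x = 1 := by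
  obtain ⟨a, ha, d, hd, rfl⟩ := (c.counting hu huM).2.2.1 m hm
  have hax : a * x * a⁻¹ = x⁻¹ := by
    rw [← hinv, show a * d * x * (a * d)⁻¹ = a * (d * x * d⁻¹) * a⁻¹ by group,
      c.comm hu huM hd hx, mul_inv_cancel_right]
  have h1 : (x * x)⁻¹ ∈ H := by
    have := H.mul_mem ha (c.conj_mem hx.1 (H.inv_mem ha))
    rwa [show a * (x * a⁻¹ * x⁻¹) = a * x * a⁻¹ * x⁻¹ by group, hax, ← mul_inv_rev] at this
  have h2 : x * x = 1 := c.inf_twoPt huM (mul_mem hx hx) (by simpa using H.inv_mem h1)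
  by_contra hx1
  exact hx1 (c.inf_twoPt huM hx (c.invo_mem (invo_of_sq hx1 h2) hx.1))

theorem Ctx.fixed_twoPt (c : Ctx H M) {u x : G} (hu : orderOf u = 2) (huM : u ∉ M)
    (hx : x ∈ twoPt M u) (hx1 : x ≠ 1) {q : G ⧸ M} (hq : x • q = q) :
    q = QuotientGroup.mk 1 ∨ q = QuotientGroup.mk u := by
  by_contra hcon
  push Not at hcon
  obtain ⟨hqo, hqp⟩ := hcon
  set o : G ⧸ M := QuotientGroup.mk 1 with ho
  set p : G ⧸ M := QuotientGroup.mk u with hp
  have hxo : x • o = o := smul_one_eq_iff.2 hx.1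
  have hxp : x • p = p := smul_mk_eq_iff.2 (mem_twoPt.1 hx).2
  have hswap : ∀ {w : G}, orderOf w = 2 → ∀ {a b : G ⧸ M}, w • a = b → w • b = a := fun hw a b e => by
    rw [← e, smul_smul, invo_sq hw, one_smul]
  have hup : u • o = p := by rw [ho, MulAction.Quotient.smul_mk, smul_eq_mul, mul_one]
  obtain ⟨v, hv, hvo⟩ := CIT.exists_swap c.stronglyEmbedded (Ne.symm hqo)
  obtain ⟨w, hw, hwp⟩ := CIT.exists_swap c.stronglyEmbedded (Ne.symm hqp)
  have iv := c.inverts_of_smul hv (hvo.symm ▸ hqo) hxo (hvo.symm ▸ hq)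
  have iw := c.inverts_of_smul hw (hwp.symm ▸ hqp) hxp (hwp.symm ▸ hq)
  have iu := (c.counting hu huM).2.1 x hx
  have hmM : u * w * v ∈ M := smul_one_eq_iff.1 <| by
    rw [mul_smul, mul_smul, ← ho, hvo, hswap hw hwp, hswap hu hup]
  refine hx1 (c.not_inverted hu huM hx hmM ?_)
  calc u * w * v * x * (u * w * v)⁻¹ = u * (w * (v * x * v⁻¹) * w⁻¹) * u⁻¹ := by group
    _ = u * (w * x * w⁻¹)⁻¹ * u⁻¹ := by rw [iv]; group
    _ = x⁻¹ := by rw [iw, inv_inv, iu]

theorem Ctx.free (c : Ctx H M) {u a : G} (huM : u ∉ M) (ha : a ∈ H)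
    (hau : a • (QuotientGroup.mk u : G ⧸ M) = QuotientGroup.mk u) : a = 1 :=
  c.inf_twoPt huM (mem_twoPt.2 ⟨c.le ha, smul_mk_eq_iff.1 hau⟩) ha

theorem Ctx.orbit (c : Ctx H M) {u : G} (hu : orderOf u = 2) (huM : u ∉ M)
    (hI : 1 < Nat.card {t : G // orderOf t = 2 ∧ t ∈ M}) {q : G ⧸ M}
    (hq : q ≠ QuotientGroup.mk 1) : ∃ a ∈ H, q = a • QuotientGroup.mk u := by
  set o : G ⧸ M := QuotientGroup.mk 1 with ho
  obtain ⟨v, hv, hvo⟩ := CIT.exists_swap c.stronglyEmbedded (Ne.symm hq)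
  have hqv : q = QuotientGroup.mk v := by
    rw [← hvo, ho, MulAction.Quotient.smul_mk, smul_eq_mul, mul_one]
  have hvM : v ∉ M := fun e => hq (hvo ▸ smul_one_eq_iff.2 e)
  obtain ⟨x, hx, hx1⟩ : ∃ x ∈ twoPt M v, x ≠ 1 := by
    by_contra hc
    push Not at hc
    have := (c.counting hv hvM).1
    rw [(Subgroup.eq_bot_iff_forall _).2 hc, Subgroup.card_bot] at this
    omega
  obtain ⟨a₀, ha₀, d, hd, hxd⟩ := (c.counting hu huM).2.2.1 x hx.1
  have hd1 : d ≠ 1 := by
    rintro rfl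
    rw [mul_one] at hxd
    exact hx1 (c.inf_twoPt hvM hx (hxd ▸ ha₀))
  let f : H → H := fun a => ⟨(a : G) * (d * (a : G)⁻¹ * d⁻¹),
    H.mul_mem a.2 (c.conj_mem hd.1 (H.inv_mem a.2))⟩
  have hinj : Function.Injective f := by
    intro a b e
    have e' : (a : G) * (d * (a : G)⁻¹ * d⁻¹) = (b : G) * (d * (b : G)⁻¹ * d⁻¹) :=
      congrArg Subtype.val e
    have e2 : d * ((a : G)⁻¹ * b) = (a : G)⁻¹ * b * d := by
      calc d * ((a : G)⁻¹ * b) = (a : G)⁻¹ * ((a : G) * (d * (a : G)⁻¹ * d⁻¹)) * d * b := by group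
        _ = (a : G)⁻¹ * b * d := by rw [e']; group
    by_contra hne
    have hab : (a : G)⁻¹ * b ≠ 1 := fun h1 => hne (Subtype.ext (inv_mul_eq_one.1 h1))
    exact hd1 (c.inf_twoPt huM hd (c.cent _ (H.mul_mem (H.inv_mem a.2) b.2) hab
      (Subgroup.mem_centralizer_singleton_iff.2 e2)))
  obtain ⟨a, ha⟩ := (Finite.injective_iff_surjective.1 hinj) ⟨a₀, ha₀⟩
  have ha' : (a : G) * (d * (a : G)⁻¹ * d⁻¹) = a₀ := congrArg Subtype.val ha
  have hxa : x = (a : G) * d * (a : G)⁻¹ := by rw [hxd, ← ha']; group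
  have hxq : x • q = q := hqv ▸ smul_mk_eq_iff.2 (mem_twoPt.1 hx).2
  have hdfix : d • ((a : G)⁻¹ • q) = (a : G)⁻¹ • q := by
    conv_rhs => rw [← hxq, hxa, smul_smul]
    rw [smul_smul]
    congr 1
    group
  refine ⟨a, a.2, ?_⟩
  rcases c.fixed_twoPt hu huM hd hd1 hdfix with e | e
  · refine absurd ?_ hq
    rw [← smul_inv_smul (a : G) q, e]
    exact smul_one_eq_iff.2 (c.le a.2)
  · rw [← e, smul_inv_smul]

omit [Finite G] in
theorem stabilizer_one (M : Subgroup G) :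
    MulAction.stabilizer G (QuotientGroup.mk 1 : G ⧸ M) = M := by
  ext g
  rw [MulAction.mem_stabilizer_iff, smul_one_eq_iff]

/-- In a simple group such a subgroup is a 2-group. -/
theorem Ctx.isPGroup_two [IsSimpleGroup G] (c : Ctx H M) : IsPGroup 2 H := by
  classical
  haveI := Fact.mk Nat.prime_two
  have hse := c.stronglyEmbedded
  obtain ⟨u, hu, huM⟩ := exists_invo_not_mem hse
  obtain ⟨t, ht, htH⟩ := c.exists_invo
  haveI : Nonempty {t : G // orderOf t = 2 ∧ t ∈ M} := ⟨⟨t, ht, c.le htH⟩⟩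
  obtain hI | hI : Nat.card {t : G // orderOf t = 2 ∧ t ∈ M} = 1 ∨
      1 < Nat.card {t : G // orderOf t = 2 ∧ t ∈ M} := by
    have := Nat.card_pos (α := {t : G // orderOf t = 2 ∧ t ∈ M})
    omega
  · -- `M = H`: a normal complement
    exfalso
    have hD : twoPt M u = ⊥ :=
      Subgroup.eq_bot_of_card_eq _ ((c.counting hu huM).1.trans hI)
    have hMH : M ≤ H := by
      intro m hm
      obtain ⟨a, ha, d, hd, rfl⟩ := (c.counting hu huM).2.2.1 m hm
      rw [hD, Subgroup.mem_bot] at hd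
      rwa [hd, mul_one]
    have htop : H.subgroupOf (Subgroup.normalizer (H : Set G)) = ⊤ :=
      Subgroup.subgroupOf_eq_top.2 (c.norm.le.trans hMH)
    have hTI : Cfsg.IsTISubset (H : Set G) := fun g hg x hx hgx =>
      c.ti g⁻¹ (fun h => hg (c.norm.ge (by simpa using M.inv_mem h))) x hx (by simpa using hgx)
    obtain ⟨N, hN, hNH⟩ := TIHall.exists_normal_complement hTI
      (by rw [htop, Subgroup.index_top]; exact Nat.coprime_one_right _)
      ⟨⊥, inferInstance, by rw [htop]; exact Subgroup.isComplement'_bot_top⟩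
    rcases hN.eq_bot_or_eq_top with rfl | rfl
    · exact c.ne_top (top_le_iff.1 ((Subgroup.isComplement'_bot_left.1 hNH).ge.trans c.le))
    · have := Subgroup.isComplement'_top_left.1 hNH
      exact invo_ne_one ht (Subgroup.mem_bot.1 (this ▸ htH))
  · -- Zassenhaus group
    set o : G ⧸ M := QuotientGroup.mk 1 with ho
    set p : G ⧸ M := QuotientGroup.mk u with hp
    letI := Fintype.ofFinite (G ⧸ M)
    have hop : o ≠ p := fun e => huM (smul_one_eq_iff.1 (by
      rw [MulAction.Quotient.smul_mk, smul_eq_mul, mul_one]; exact e.symm))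
    have hnot : ∀ a ∈ H, a • p ≠ o := fun a ha e => hop (smul_left_cancel a
      ((smul_one_eq_iff.2 (c.le ha) : a • o = o).trans e.symm))
    have hreg₀ : ∀ a ∈ H, ∀ b ∈ H, a • p = b • p → a = b := fun a ha b hb e =>
      inv_mul_eq_one.1 (c.free huM (H.mul_mem (H.inv_mem ha) hb)
        (show (a⁻¹ * b) • p = p by rw [mul_smul, ← e, inv_smul_smul]))
    have hpair : ∀ a b : G ⧸ M, a ≠ b → ∃ g : G, g • o = a ∧ g • p = b := by
      intro a b hab
      obtain ⟨g₀, rfl⟩ := QuotientGroup.mk_surjective a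
      have hg₀ : g₀ • o = (QuotientGroup.mk g₀ : G ⧸ M) := by
        rw [ho, MulAction.Quotient.smul_mk, smul_eq_mul, mul_one]
      obtain ⟨a', ha', e⟩ := c.orbit hu huM hI (q := g₀⁻¹ • b)
        (fun e => hab (by rw [← hg₀, ho, ← e, smul_inv_smul]))
      exact ⟨g₀ * a', by rw [mul_smul, smul_one_eq_iff.2 (c.le ha'), hg₀],
        by rw [mul_smul, ← e, smul_inv_smul]⟩
    have hstab : ∀ x : G, x • o = o → x • p = p → x ∈ twoPt M u := fun x h1 h2 =>
      mem_twoPt.2 ⟨smul_one_eq_iff.1 h1, smul_mk_eq_iff.1 h2⟩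
    have h3 : ∀ g : G, ∀ a b d : G ⧸ M, a ≠ b → b ≠ d → a ≠ d → g • a = a → g • b = b → g • d = d →
        g = 1 := by
      intro g a b d hab hbd had ha hb hd
      obtain ⟨k, rfl, rfl⟩ := hpair a b hab
      have hxD : k⁻¹ * g * k ∈ twoPt M u := hstab _
        (by rw [mul_smul, mul_smul, ha, inv_smul_smul]) (by rw [mul_smul, mul_smul, hb, inv_smul_smul])
      by_contra hg1
      have hx1 : k⁻¹ * g * k ≠ 1 := fun e => hg1 (by
        rw [show g = k * (k⁻¹ * g * k) * k⁻¹ by group, e, mul_one, mul_inv_cancel])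
      rcases c.fixed_twoPt hu huM hxD hx1 (q := k⁻¹ • d)
        (by rw [mul_smul, mul_smul, smul_inv_smul, hd]) with e | e
      · exact had (by rw [← smul_inv_smul k d, e])
      · exact hbd (by rw [← smul_inv_smul k d, e])
    have hHcard : Nat.card H + 1 = Fintype.card (G ⧸ M) := by
      rw [← Nat.card_eq_fintype_card, ← Finite.card_option]
      refine Nat.card_eq_of_bijective
        (fun o' : Option H => o'.elim o fun a => (a : G) • p) ⟨?_, fun q => ?_⟩
      · rintro (_ | a) (_ | b) e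
        · rfl
        · exact absurd e.symm (hnot b b.2)
        · exact absurd e (hnot a a.2)
        · exact congrArg some (Subtype.ext (hreg₀ a a.2 b b.2 e))
      · by_cases hq : q = o
        · exact ⟨none, hq.symm⟩
        · obtain ⟨a, ha, e⟩ := c.orbit hu huM hI hq
          exact ⟨some ⟨a, ha⟩, e.symm⟩
    have h2card : 2 ≤ Nat.card H := Nat.le_of_dvd Nat.card_pos c.even
    have hthird : ∀ a b : G ⧸ M, ∃ d, d ≠ a ∧ d ≠ b := by
      intro a b
      obtain ⟨d, -, hd⟩ := Finset.exists_mem_notMem_of_card_lt_card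
        (s := ({a, b} : Finset (G ⧸ M))) (t := Finset.univ) (Finset.card_le_two.trans_lt (by
          rw [Finset.card_univ]; omega))
      simp only [Finset.mem_insert, Finset.mem_singleton, not_or] at hd
      exact ⟨d, hd⟩
    obtain ⟨d₀, hd₀, hd₀1⟩ : ∃ d ∈ twoPt M u, d ≠ 1 := by
      by_contra hc
      push Not at hc
      have := (c.counting hu huM).1
      rw [(Subgroup.eq_bot_iff_forall _).2 hc, Subgroup.card_bot] at this
      omega
    have hZ : Cfsg.IsZassenhausGroup G (G ⧸ M) := by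
      refine ⟨⟨fun {g g'} e => ?_⟩, MulAction.is_two_pretransitive_iff.2 fun hab hcd => ?_, h3,
        ⟨d₀, hd₀1, o, p, hop, smul_one_eq_iff.2 hd₀.1, smul_mk_eq_iff.2 (mem_twoPt.1 hd₀).2⟩, ?_⟩
      · obtain ⟨d, hd1, hd2⟩ := hthird o p
        exact (inv_mul_eq_one.1 (h3 (g'⁻¹ * g) o p d hop hd2.symm hd1.symm
          (by rw [mul_smul, e, inv_smul_smul]) (by rw [mul_smul, e, inv_smul_smul])
          (by rw [mul_smul, e, inv_smul_smul]))).symm
      · obtain ⟨g₁, h11, h12⟩ := hpair _ _ hab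
        obtain ⟨g₂, h21, h22⟩ := hpair _ _ hcd
        exact ⟨g₂ * g₁⁻¹, by rw [mul_smul, ← h11, inv_smul_smul, h21],
          by rw [mul_smul, ← h12, inv_smul_smul, h22]⟩
      · intro N hN hNt
        refine ⟨o, fun hbot => ?_⟩
        rcases hN.eq_bot_or_eq_top with rfl | rfl
        · obtain ⟨n, hn⟩ := hNt.exists_smul_eq o p
          rw [Subgroup.smul_def, Subgroup.mem_bot.1 n.2, one_smul] at hn
          exact hop hn
        · have : (⟨d₀, Subgroup.mem_top _⟩ : (⊤ : Subgroup G)) ∈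
              MulAction.stabilizer (⊤ : Subgroup G) o := smul_one_eq_iff.2 hd₀.1
          exact hd₀1 (congrArg Subtype.val (Subgroup.mem_bot.1 (hbot.le this)))
    have hodd : Odd (Nat.card ↥(MulAction.stabilizer G o ⊓ MulAction.stabilizer G p)) := by
      rw [Nat.odd_iff, ← Nat.two_dvd_ne_zero]
      intro h2
      obtain ⟨⟨x, hx12⟩, hx⟩ :=
        exists_prime_orderOf_dvd_card' (G := ↥(MulAction.stabilizer G o ⊓ MulAction.stabilizer G p)) 2 h2
      rw [Subgroup.orderOf_mk] at hx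
      obtain ⟨hx1, hx2⟩ := Subgroup.mem_inf.1 hx12
      have hxD := hstab x hx1 hx2
      exact invo_ne_one hx (c.inf_twoPt huM hxD (c.invo_mem hx hxD.1))
    have hHle : H ≤ MulAction.stabilizer G o := (stabilizer_one M).symm ▸ c.le
    have hHfix : ∀ a ∈ H, a ≠ 1 → ∀ q : G ⧸ M, a • q = q → q = o := by
      intro a ha ha1 q hq
      by_contra hqo
      obtain ⟨b, hb, rfl⟩ := c.orbit hu huM hI hqo
      refine ha1 (mul_right_cancel (b := b) ((one_mul b).symm ▸ ?_))
      exact hreg₀ _ (H.mul_mem ha hb) b hb (by rw [mul_smul, hq])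
    rcases Zassenhaus.feit _ G le_rfl hZ hop (Nat.card H) _ hHcard.symm rfl hodd H hHle hHcard
      hHfix with hbig | ⟨h2, -, -⟩
    · have hreg : ∀ y z : G ⧸ M, y ≠ o → z ≠ o → ∃! a : H, (a : G) • y = z := by
        intro y z hy hz
        obtain ⟨a, ha, rfl⟩ := c.orbit hu huM hI hy
        obtain ⟨b, hb, rfl⟩ := c.orbit hu huM hI hz
        refine ⟨⟨b * a⁻¹, H.mul_mem hb (H.inv_mem ha)⟩, ?_, fun x hx => Subtype.ext ?_⟩
        · show (b * a⁻¹) • a • p = b • p
          rw [smul_smul, inv_mul_cancel_right]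
        · show (x : G) = b * a⁻¹
          rw [eq_mul_inv_iff_mul_eq]
          exact hreg₀ _ (H.mul_mem x.2 ha) b hb (by rw [mul_smul]; exact hx)
      have hHn : (H.subgroupOf (MulAction.stabilizer G o)).Normal :=
        ⟨fun x hx g => Subgroup.mem_subgroupOf.2 (c.conj_mem (smul_one_eq_iff.1 g.2) hx)⟩
      obtain ⟨-, q, f, hq, hexp, -⟩ :=
        Cfsg.Agent.S0738.result hZ hop (by omega) H hHle hHn hreg
      have hq2 : q = 2 := ((Nat.prime_dvd_prime_iff_eq Nat.prime_two hq).1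
        (ht ▸ orderOf_dvd_of_pow_eq_one (hexp t htH))).symm
      exact fun x => ⟨1, Subtype.ext (by rw [pow_one, SubmonoidClass.coe_pow, ← hq2]; exact hexp x x.2)⟩
    · exact h2

/-- A simple CN-group is a CIT-group. -/
theorem isPGroup_centralizer [IsSimpleGroup G] (hG : ∃ a b : G, a * b ≠ b * a)
    (hCN : Cfsg.IsCNGroup G) {t : G} (ht : orderOf t = 2) :
    IsPGroup 2 (Subgroup.centralizer ({t} : Set G)) := by
  classical
  haveI := Fact.mk Nat.prime_two
  set C := Subgroup.centralizer ({t} : Set G) with hC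
  obtain ⟨H, hCH, hmax⟩ :=
    (Set.toFinite {K : Subgroup G | Group.IsNilpotent K}).exists_le_maximal
      (a := C) (hCN t (invo_ne_one ht))
  have hHn : Group.IsNilpotent H := hmax.1
  have hmax' : ∀ K : Subgroup G, Group.IsNilpotent K → H ≤ K → K = H := fun K hK hle =>
    le_antisymm (hmax.2 hK hle) hle
  by_cases hpp : IsPrimePow (Nat.card H)
  · obtain ⟨q, k, hq, -, hqk⟩ := (isPrimePow_nat_iff _).1 hpp
    have htH : t ∈ H := hCH (Subgroup.mem_centralizer_singleton_iff.2 rfl)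
    have h2 : 2 ∣ q ^ k := hqk ▸ ht ▸ Subgroup.orderOf_dvd_natCard H htH
    obtain rfl := ((Nat.prime_dvd_prime_iff_eq Nat.prime_two hq).1 (Nat.prime_two.dvd_of_dvd_pow h2)).symm
    exact (IsPGroup.of_card (n := k) hqk.symm).to_le hCH
  have hconj : ∀ g x : G, x ∈ H → x ≠ 1 → g⁻¹ * x * g ∈ H →
      H.map (MulAut.conj g).toMonoidHom = H := fun g x hx hx1 hgx =>
    CNSolvable.map_conj_eq_of_meet_max hCN hHn hmax' hpp hx hx1 hgx
  have hti : ∀ g : G, H.map (MulAut.conj g).toMonoidHom ≠ H →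
      H ⊓ H.map (MulAut.conj g).toMonoidHom = ⊥ := by
    intro g hg
    rw [Subgroup.eq_bot_iff_forall]
    intro x hx
    by_contra hx1
    exact hg (hconj g x hx.1 hx1 (CNSolvable.mem_of_mem_map_conj hx.2))
  have htH : t ∈ H := hCH (Subgroup.mem_centralizer_singleton_iff.2 rfl)
  have hne : Subgroup.normalizer (H : Set G) ≠ ⊤ := by
    intro htop
    haveI : H.Normal := Subgroup.normalizer_eq_top_iff.1 htop
    rcases ‹H.Normal›.eq_bot_or_eq_top with e | e
    · exact invo_ne_one ht (Subgroup.mem_bot.1 (e ▸ htH))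
    · obtain ⟨a, b, hab⟩ := hG
      haveI : Group.IsNilpotent G := CNTheorem.isNilpotent_of_eq_top e hHn
      exact hab (IsSimpleGroup.comm_iff_isSolvable.2 inferInstance a b)
  have c : Ctx H (Subgroup.normalizer (H : Set G)) :=
    { norm := rfl
      ti := fun g hg x hx hgx => by
        by_contra hx1
        have e := hconj g x hx hx1 hgx
        refine hg (Subgroup.mem_normalizer_iff.2 fun z => ⟨fun hz => ?_, fun hz => ?_⟩)
        · exact e ▸ ⟨z, hz, rfl⟩
        · rw [← e] at hz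
          obtain ⟨y, hy, hyz⟩ := hz
          exact (MulAut.conj g).injective hyz ▸ hy
      cent := fun x hx hx1 => CNSolvable.centralizer_le_of_ti hCN hHn hmax' hti hx hx1
      cop := CNSolvable.coprime_index hCN hHn hmax'
      ne_top := hne
      even := ht ▸ Subgroup.orderOf_dvd_natCard H htH }
  exact c.isPGroup_two.to_le hCH

end Cfsg.Agent.Lib.CNCIT
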